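import Cfsg.Agent.H710.LB3.Own
import Cfsg.Agent.H334.Star.Exc
import Cfsg.Agent.H800.Sp.NotAbA
import Cfsg.Agent.H800.Sp.NotAbB

/-!
# S4879, `p = 3`: exceptional and sporadic groups with commutative 3-subgroups and `27 ∣ |S|` (helper710, for helper319)

Only the O'Nan group.
-/

set_option autoImplicit false

namespace Cfsg.Agent.H710.LB3

open Cfsg Subgroup Cfsg.Agent.H794.DefRank Cfsg.Agent.H795.NotAbRows

theorem false_of_NotAb {S T : Type*} [Group S] [Group T] (e : S ≃* T)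
    (hcomm : ∀ Q : Subgroup S, IsPGroup 3 Q → ∀ a ∈ Q, ∀ b ∈ Q, a * b = b * a)
    (hT : Cfsg.Agent.H800.Sp.NotAb 3 T) : False := by
  have h3 : Fact (Nat.Prime 3) := ⟨Nat.prime_three⟩
  exact false_of_notAb (comm_of_equiv e hcomm) ⟨default, hT _⟩

theorem suz_not_dvd {m : ℕ} {n : ℕ}
    (hn : n = (2 ^ (2 * m + 1)) ^ 2 * (2 ^ (2 * m + 1) - 1) * ((2 ^ (2 * m + 1)) ^ 2 + 1)) : ¬ 3 ∣ n := by
  have h1 : 2 ^ (2 * m + 1) % 3 = 2 := by
    rw [pow_succ, pow_mul, Nat.mul_mod, Nat.pow_mod]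
    norm_num
  intro h3
  rw [hn] at h3
  have hq2 : (2 ^ (2 * m + 1)) ^ 2 % 3 = 1 := by rw [Nat.pow_mod, h1]
  generalize 2 ^ (2 * m + 1) = q at *
  rcases (Nat.Prime.dvd_mul Nat.prime_three).1 h3 with h4 | h4
  · rcases (Nat.Prime.dvd_mul Nat.prime_three).1 h4 with h5 | h5
    · omega
    · omega
  · omega

/-- **Exceptional Lie type.** -/
theorem exc_three {S : Type*} [Group S] [Finite S] [IsSimpleGroup S] (h : IsExceptionalLieType S)
    (h9 : 9 ∣ Nat.card S) (hcomm : ∀ Q : Subgroup S, IsPGroup 3 Q → ∀ a ∈ Q, ∀ b ∈ Q, a * b = b * a) : False := by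
  have h3 : Fact (Nat.Prime 3) := ⟨Nat.prime_three⟩
  have hc := noncomm h9
  have hexc : IsExceptionalChevChar 3 S → False := fun h1 =>
    false_of_notAb hcomm (H334.Star.notAb_of_rk2 hc (rk2_of_exceptional h1))
  have htw : IsTwistedE6D4Char 3 S → False := fun h1 =>
    false_of_notAb hcomm (H334.Star.notAb_of_rk2 hc (rk2_of_twisted h1))
  rcases h with h1 | h1 | h1 | h1 | h1 | h1 | h1 | h1 | h1 | h1 | h1
  · obtain ⟨F, _, _, hF, ⟨e⟩⟩ := h1
    rcases H334.Star.charP_or F with hc | hc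
    · exact hexc ⟨F, inferInstance, inferInstance, hc, Or.inl ⟨hF, ⟨e⟩⟩⟩
    · exact false_of_NotAb e hcomm (g2 hc)
  · obtain ⟨F, _, _, ⟨e⟩⟩ := h1
    rcases H334.Star.charP_or F with hc | hc
    · exact hexc ⟨F, inferInstance, inferInstance, hc, Or.inr (Or.inl ⟨e⟩)⟩
    · exact false_of_NotAb e hcomm (f4 hc)
  · obtain ⟨F, _, _, ⟨e⟩⟩ := h1
    rcases H334.Star.charP_or F with hc | hc
    · exact hexc ⟨F, inferInstance, inferInstance, hc, Or.inr (Or.inr (Or.inl ⟨e⟩))⟩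
    · exact false_of_NotAb e hcomm (e6 hc)
  · obtain ⟨F, _, _, ⟨e⟩⟩ := h1
    rcases H334.Star.charP_or F with hc | hc
    · exact hexc ⟨F, inferInstance, inferInstance, hc, Or.inr (Or.inr (Or.inr (Or.inl ⟨e⟩)))⟩
    · exact false_of_NotAb e hcomm (e7 hc)
  · obtain ⟨F, _, _, ⟨e⟩⟩ := h1
    rcases H334.Star.charP_or F with hc | hc
    · exact hexc ⟨F, inferInstance, inferInstance, hc, Or.inr (Or.inr (Or.inr (Or.inr ⟨e⟩)))⟩
    · exact false_of_NotAb e hcomm (e8 hc)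
  · obtain ⟨F, _, _, q, hq, hF, ⟨e⟩⟩ := h1
    rcases H334.Star.charP_or F with hc | hc
    · exact htw ⟨F, inferInstance, inferInstance, hc, q, hq, Or.inl ⟨hF, ⟨e⟩⟩⟩
    · exact false_of_NotAb e hcomm (twE6 hc hq hF)
  · obtain ⟨F, _, _, q, hq, hF, ⟨e⟩⟩ := h1
    rcases H334.Star.charP_or F with hc | hc
    · exact htw ⟨F, inferInstance, inferInstance, hc, q, hq, Or.inr ⟨hF, ⟨e⟩⟩⟩
    · exact false_of_NotAb e hcomm (twD4 hc hq hF)
  · obtain ⟨F, _, _, m, hm, hF, ⟨e⟩⟩ := h1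
    refine suz_not_dvd (m := m) ?_ ((by norm_num : 3 ∣ 9).trans h9)
    rw [Nat.card_congr e.toEquiv]
    exact (Cfsg.Agent.S1163.result hm hF).1
  · exact false_of_NotAb (MulEquiv.refl S) hcomm (Cfsg.Agent.H794.DefAb.notAb_ree h1)
  · obtain ⟨F, _, _, m, hm, hF, ⟨e⟩⟩ := h1
    have h2 : CharP F 2 := by
      obtain ⟨p, hp⟩ := CharP.exists F
      have hpp : p.Prime := (CharP.char_is_prime_or_zero F p).resolve_right (CharP.char_ne_zero_of_finite F p)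
      have : Fact p.Prime := ⟨hpp⟩
      obtain ⟨n, -, hn⟩ := FiniteField.card F p
      have h4 : p ∣ 2 ^ (2 * m + 1) := by
        rw [← hF, hn]
        exact dvd_pow_self p n.ne_zero
      have h5 := (Nat.prime_dvd_prime_iff_eq hpp Nat.prime_two).1 (hpp.dvd_of_dvd_pow h4)
      subst h5
      exact hp
    exact false_of_notAb (comm_of_equiv e hcomm) ⟨default, Cfsg.Agent.H42.Tw.not_abelian_three F (by positivity) _⟩
  · exact false_of_NotAb (MulEquiv.refl S) hcomm (Cfsg.Agent.H800.Sp.NotAbRows.tits_3 h1)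

theorem not_27 {S : Type*} [Group S] {N : ℕ} (h : Nat.card S = N) (hN : ¬ 27 ∣ N) (h27 : 27 ∣ Nat.card S) : False :=
  hN (h ▸ h27)

/-- **Sporadic groups.** -/
theorem spor_three {S : Type*} [Group S] [Finite S] [IsSimpleGroup S] (h : IsSporadicGroup S)
    (h27 : 27 ∣ Nat.card S) (hcomm : ∀ Q : Subgroup S, IsPGroup 3 Q → ∀ a ∈ Q, ∀ b ∈ Q, a * b = b * a) :
    Spor.IsoON S := by
  have key : Cfsg.Agent.H800.Sp.NotAb 3 S → Spor.IsoON S := fun h1 =>
    (false_of_NotAb (MulEquiv.refl S) hcomm h1).elim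
  rcases h with h | h | h | h | h | h | h | h | h | h | h | h | h | h | h | h | h | h | h | h | h | h | h | h | h | h
  · exact (not_27 (NotCT.Orders.m11 h) (by norm_num) h27).elim
  · exact key (Cfsg.Agent.H800.Sp.NotAbRows.m12_3 h)
  · exact (not_27 (NotCT.Orders.m22 h) (by norm_num) h27).elim
  · exact (not_27 (NotCT.Orders.m23 h) (by norm_num) h27).elim
  · exact key (Cfsg.Agent.H800.Sp.NotAbRows.m24_3 h)
  · exact (not_27 (NotCT.Orders.j1 h) (by norm_num) h27).elim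
  · exact key (Cfsg.Agent.H800.Sp.NotAbRows.j2_3 h)
  · exact key (Cfsg.Agent.H800.Sp.NotAbRows.j3_3 h)
  · exact key (Cfsg.Agent.H800.Sp.NotAbRows.j4_3 h)
  · exact key (Cfsg.Agent.H800.Sp.NotAbRows.co1_3 h)
  · exact key (Cfsg.Agent.H800.Sp.NotAbRows.co2_3 h)
  · exact key (Cfsg.Agent.H800.Sp.NotAbRows.co3_3 h)
  · exact key (Cfsg.Agent.H800.Sp.NotAbRows.mcl_3 h)
  · exact (not_27 (NotCT.Orders.hs h) (by norm_num) h27).elim
  · exact key (Cfsg.Agent.H800.Sp.NotAbRows.suz_3 h)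
  · exact key (Cfsg.Agent.H800.Sp.NotAbRows.he_3 h)
  · exact key (Cfsg.Agent.H800.Sp.NotAbRows.ru_3 h)
  · exact h
  · exact key (Cfsg.Agent.H800.Sp.NotAbRows.ly_3 h)
  · exact key (Cfsg.Agent.H800.Sp.NotAbRows.fi22_3 h)
  · exact key (Cfsg.Agent.H800.Sp.NotAbRows.fi23_3 h)
  · exact key (Cfsg.Agent.H800.Sp.NotAbRows.fi24_3 h)
  · exact key (Cfsg.Agent.H800.Sp.NotAbRows.hn_3 h)
  · exact key (Cfsg.Agent.H800.Sp.NotAbRows.th_3 h)
  · exact key (Cfsg.Agent.H800.Sp.NotAbRows.b_3 h)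
  · exact key (Cfsg.Agent.H800.Sp.NotAbRows.m_3 h)

theorem dvd_of_card {S : Type*} [Group S] [Finite S] (hcard : ∀ P : Sylow 3 S, 27 ≤ Nat.card P) :
    27 ∣ Nat.card S := by
  have h3 : Fact (Nat.Prime 3) := ⟨Nat.prime_three⟩
  obtain ⟨P⟩ : Nonempty (Sylow 3 S) := inferInstance
  obtain ⟨k, hk⟩ := IsPGroup.iff_card.1 P.isPGroup'
  have h1 := hcard P
  rw [hk] at h1
  have h2 : 3 ≤ k := by
    by_contra hcon
    have : 3 ^ k ≤ 3 ^ 2 := Nat.pow_le_pow_right (by norm_num) (by omega)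
    omega
  have h4 : (27 : ℕ) ∣ 3 ^ k := by
    rw [show (27 : ℕ) = 3 ^ 3 by norm_num]
    exact pow_dvd_pow 3 h2
  exact h4.trans (hk ▸ Subgroup.card_subgroup_dvd_card (P : Subgroup S))

universe u

/-- **the piece of helper319** -/
theorem exc_spor_three {S : Type u} [Group S] [Finite S] [IsSimpleGroup S]
    (h : IsExceptionalLieType S ∨ IsSporadicGroup S) (hcard : ∀ P : Sylow 3 S, 27 ≤ Nat.card P)
    (hcomm : ∀ Q : Subgroup S, IsPGroup 3 Q → ∀ a ∈ Q, ∀ b ∈ Q, a * b = b * a)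
    (_hexp : ∀ (x : S) (k : ℕ), x ^ 3 ^ k = 1 → x ^ 3 = 1) : Spor.IsoON S := by
  have h27 := dvd_of_card hcard
  rcases h with h | h
  · exact (exc_three h ((by norm_num : 9 ∣ 27).trans h27) hcomm).elim
  · exact spor_three h h27 hcomm

end Cfsg.Agent.H710.LB3
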