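import Cfsg.Agent.H334.Star.Own

/-!
# S4879, `p = 3`: own characteristic (helper710, for helper319)

A simple group of Lie type in characteristic 3 with commutative 3-subgroups is `PSL₂(3ⁿ)`.
-/

set_option autoImplicit false

namespace Cfsg.Agent.H710.LB3

open Cfsg Subgroup Cfsg.Agent.H794.DefRank

/-- all 3-subgroups are commutative -/
theorem false_of_notAb {S : Type*} [Group S]
    (hcomm : ∀ Q : Subgroup S, IsPGroup 3 Q → ∀ a ∈ Q, ∀ b ∈ Q, a * b = b * a)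
    (h : ∃ P : Sylow 3 S, ¬ IsMulCommutative (P : Subgroup S)) : False := by
  obtain ⟨P, hP⟩ := h
  exact hP ⟨⟨fun a b => Subtype.ext (hcomm P P.isPGroup' a a.2 b b.2)⟩⟩

theorem comm_of_equiv {S T : Type*} [Group S] [Group T] (e : S ≃* T)
    (hcomm : ∀ Q : Subgroup S, IsPGroup 3 Q → ∀ a ∈ Q, ∀ b ∈ Q, a * b = b * a) :
    ∀ Q : Subgroup T, IsPGroup 3 Q → ∀ a ∈ Q, ∀ b ∈ Q, a * b = b * a := by
  intro Q hQ a ha b hb
  have h1 : IsPGroup 3 (Q.map e.symm.toMonoidHom) := hQ.map e.symm.toMonoidHom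
  have h2 := hcomm _ h1 (e.symm a) ⟨a, ha, rfl⟩ (e.symm b) ⟨b, hb, rfl⟩
  apply e.symm.injective
  rw [map_mul, map_mul, h2]

/-- not commutative, from 9 dividing the order -/
theorem noncomm {S : Type*} [Group S] [Finite S] [IsSimpleGroup S] (h9 : 9 ∣ Nat.card S) :
    ∃ a b : S, a * b ≠ b * a := by
  by_contra hno
  push Not at hno
  let _ : CommGroup S := { (inferInstance : Group S) with mul_comm := hno }
  have h1 : (Nat.card S).Prime := IsSimpleGroup.prime_card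
  have h4 : 3 ∣ Nat.card S := (by norm_num : 3 ∣ 9).trans h9
  rw [Nat.prime_dvd_prime_iff_eq Nat.prime_three h1] at h4
  rw [← h4] at h9
  norm_num at h9

/-- **Own characteristic 3.** -/
theorem own_three' {S : Type*} [Group S] [Finite S] [IsSimpleGroup S] (hc : ∃ a b : S, a * b ≠ b * a)
    (hcomm : ∀ Q : Subgroup S, IsPGroup 3 Q → ∀ a ∈ Q, ∀ b ∈ Q, a * b = b * a) (h : IsLieTypeChar 3 S) :
    ∃ (F : Type) (_ : Field F) (_ : Fintype F) (n : ℕ), Fintype.card F = 3 ^ n ∧ 4 ≤ Fintype.card F ∧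
      Nonempty (S ≃* Matrix.ProjectiveSpecialLinearGroup (Fin 2) F) := by
  have h3 : Fact (Nat.Prime 3) := ⟨Nat.prime_three⟩
  rcases rk2_or (by norm_num) h with h1 | ⟨F, i1, i2, i3, hF, h1⟩ | ⟨F, i1, i2, i3, q, hF, -, ⟨e⟩⟩ | ⟨-, h1⟩
  · exact (false_of_notAb hcomm (H334.Star.notAb_of_rk2 hc h1)).elim
  · obtain ⟨n, -, hn⟩ := FiniteField.card F 3
    exact ⟨F, i1, i2, n, hn, hF, h1⟩
  · exfalso
    have h2 : Cfsg.Agent.H800.Sp.NotAb 3 (PSU 3 F q) := Cfsg.Agent.H794.PsuNotAb.notAb hF le_rfl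
    exact false_of_notAb (comm_of_equiv e hcomm) ⟨default, h2 _⟩
  · exfalso
    exact false_of_notAb hcomm ⟨default, Cfsg.Agent.H794.DefAb.notAb_ree h1 _⟩

/-- the form of helper319 -/
theorem own_three {S : Type*} [Group S] [Finite S] [IsSimpleGroup S] (hna : ¬ IsMulCommutative S)
    (h : IsLieTypeChar 3 S) (hcomm : ∀ Q : Subgroup S, IsPGroup 3 Q → ∀ a ∈ Q, ∀ b ∈ Q, a * b = b * a) :
    ∃ (F : Type) (_ : Field F) (_ : Fintype F) (n : ℕ), Fintype.card F = 3 ^ n ∧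
      Nonempty (S ≃* Matrix.ProjectiveSpecialLinearGroup (Fin 2) F) := by
  obtain ⟨F, i1, i2, n, hn, -, e⟩ := own_three' (by
    by_contra hcon
    push Not at hcon
    exact hna ⟨⟨hcon⟩⟩) hcomm h
  exact ⟨F, i1, i2, n, hn, e⟩

end Cfsg.Agent.H710.LB3
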